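import Mathlib
import Groth.Prelude.Def_CAlgX

set_option autoImplicit false
universe u

open IsLocalRing TensorProduct KaehlerDifferential

namespace Groth.Agent.H5.Jac

variable {R S P : Type u} [CommRing R] [CommRing S] [IsLocalRing S] [Algebra R S]
  [CommRing P] [Algebra R P] [Algebra P S] [IsScalarTower R P S]

omit [IsLocalRing S] [Algebra R S] [Algebra R P] [Algebra P S] [IsScalarTower R P S] in
theorem sup_pow_sq_le (𝔫 I : Ideal P) (hI𝔫 : I ≤ 𝔫) (k : ℕ) :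
    (I ⊔ 𝔫 ^ k) ^ 2 ≤ 𝔫 * I ⊔ 𝔫 ^ k := by
  generalize 𝔫 ^ k = Q
  rw [pow_two, Ideal.sup_mul, Ideal.mul_sup, Ideal.mul_sup]
  refine sup_le (sup_le ?_ ?_) (sup_le ?_ ?_)
  · exact le_trans (Ideal.mul_mono_left hI𝔫) le_sup_left
  · exact le_trans Ideal.mul_le_right le_sup_right
  · exact le_trans Ideal.mul_le_left le_sup_right
  · exact le_trans Ideal.mul_le_right le_sup_right

omit [IsLocalRing S] [Algebra R S] [Algebra R P] [Algebra P S] [IsScalarTower R P S] in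
theorem mul_sup_pow_le (𝔫 I : Ideal P) (k : ℕ) :
    𝔫 * (I ⊔ 𝔫 ^ k) ≤ 𝔫 * I ⊔ 𝔫 ^ k := by
  generalize 𝔫 ^ k = Q
  rw [Ideal.mul_sup]
  refine sup_le le_sup_left ?_
  exact le_trans Ideal.mul_le_right le_sup_right

/-- Step A: from adic formal smoothness, an element of the kernel whose differential lies in
`𝔫 Ω` lies in `𝔫 I + 𝔫 ^ k`. -/
theorem mem_sup_pow_of_D_mem (h₁ : Function.Surjective (algebraMap P S))
    (hS : CAlgX.IsAdicFormallySmooth R S (maximalIdeal S))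
    (x : P) (hx : x ∈ RingHom.ker (algebraMap P S))
    (hD : KaehlerDifferential.D R P x ∈
      ((maximalIdeal S).comap (algebraMap P S)) • (⊤ : Submodule P Ω[P⁄R])) (k : ℕ) :
    x ∈ (maximalIdeal S).comap (algebraMap P S) * RingHom.ker (algebraMap P S) ⊔
      ((maximalIdeal S).comap (algebraMap P S)) ^ k := by
  set 𝔫 : Ideal P := (maximalIdeal S).comap (algebraMap P S) with h𝔫
  set I : Ideal P := RingHom.ker (algebraMap P S) with hI
  have hI𝔫 : I ≤ 𝔫 := by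
    intro y hy
    rw [h𝔫, Ideal.mem_comap, (RingHom.mem_ker).mp hy]
    exact zero_mem _
  set 𝔞 : Ideal P := 𝔫 * I ⊔ 𝔫 ^ k with h𝔞
  set N : Ideal (P ⧸ 𝔞) := (I ⊔ 𝔫 ^ k).map (Ideal.Quotient.mk 𝔞) with hN
  have hN2 : N ^ 2 = ⊥ := by
    rw [hN, ← Ideal.map_pow, eq_bot_iff, Ideal.map_le_iff_le_comap]
    have : (I ⊔ 𝔫 ^ k) ^ 2 ≤ 𝔞 := sup_pow_sq_le 𝔫 I hI𝔫 k
    intro y hy
    rw [Ideal.mem_comap, Ideal.mem_bot]
    exact Ideal.Quotient.eq_zero_iff_mem.mpr (this hy)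
  have h𝔫N : ∀ j ∈ 𝔫, ∀ n ∈ N, Ideal.Quotient.mk 𝔞 j * n = 0 := by
    intro j hj n hn
    have h1 : Ideal.Quotient.mk 𝔞 j * n ∈ (𝔫 * (I ⊔ 𝔫 ^ k)).map (Ideal.Quotient.mk 𝔞) := by
      rw [Ideal.map_mul]
      exact Ideal.mul_mem_mul (Ideal.mem_map_of_mem _ hj) hn
    have h2 : 𝔫 * (I ⊔ 𝔫 ^ k) ≤ 𝔞 := mul_sup_pow_le 𝔫 I k
    have h3 : (𝔫 * (I ⊔ 𝔫 ^ k)).map (Ideal.Quotient.mk 𝔞) = ⊥ := by
      rw [eq_bot_iff, Ideal.map_le_iff_le_comap]
      intro y hy
      rw [Ideal.mem_comap, Ideal.mem_bot]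
      exact Ideal.Quotient.eq_zero_iff_mem.mpr (h2 hy)
    rw [h3] at h1
    exact h1
  -- the canonical map and its factorization through `S`
  let can : P →ₐ[R] (P ⧸ 𝔞) ⧸ N := IsScalarTower.toAlgHom R P ((P ⧸ 𝔞) ⧸ N)
  have hcan : ∀ y, can y = Ideal.Quotient.mk N (Ideal.Quotient.mk 𝔞 y) := fun y => rfl
  have hcan0 : ∀ y ∈ I ⊔ 𝔫 ^ k, can y = 0 := by
    intro y hy
    rw [hcan]
    exact Ideal.Quotient.eq_zero_iff_mem.mpr (Ideal.mem_map_of_mem _ hy)
  have hker : RingHom.ker (IsScalarTower.toAlgHom R P S).toRingHom ≤ RingHom.ker can.toRingHom := by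
    intro y hy
    have hy' : y ∈ I := hy
    rw [RingHom.mem_ker]
    exact hcan0 y (Ideal.mem_sup_left hy')
  have h₁' : Function.Surjective (IsScalarTower.toAlgHom R P S) := h₁
  let ψ : S →ₐ[R] (P ⧸ 𝔞) ⧸ N :=
    AlgHom.liftOfSurjective (IsScalarTower.toAlgHom R P S) h₁' can hker
  have hψ : ∀ y : P, ψ (algebraMap P S y) = can y := fun y =>
    AlgHom.liftOfSurjective_apply (IsScalarTower.toAlgHom R P S) h₁' can hker y
  have hmap : 𝔫.map (algebraMap P S) = maximalIdeal S := Ideal.map_comap_of_surjective _ h₁ _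
  obtain ⟨χ, hχ⟩ := hS (P ⧸ 𝔞) N hN2 ψ ⟨k, by
    intro y hy
    rw [← hmap, ← Ideal.map_pow] at hy
    obtain ⟨p, hp, rfl⟩ := (Ideal.mem_map_iff_of_surjective _ h₁).mp hy
    rw [hψ]
    exact hcan0 p (Ideal.mem_sup_right hp)⟩
  let f : P →ₐ[R] P ⧸ 𝔞 := χ.comp (IsScalarTower.toAlgHom R P S)
  have hf : ∀ y, f y = χ (algebraMap P S y) := fun y => rfl
  have e : (Ideal.Quotient.mkₐ R N).comp f = IsScalarTower.toAlgHom R P ((P ⧸ 𝔞) ⧸ N) := by
    ext y
    show Ideal.Quotient.mk N (χ (algebraMap P S y)) = can y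
    have := congrArg (fun φ => φ (algebraMap P S y)) hχ
    simp only [AlgHom.comp_apply] at this
    rw [← hψ]
    exact this
  let D' : Derivation R P N := derivationToSquareZeroOfLift N hN2 f e
  have hD' : ∀ y, (D' y : P ⧸ 𝔞) = f y - algebraMap P (P ⧸ 𝔞) y := fun y =>
    derivationToSquareZeroOfLift_apply N hN2 f e y
  have hsmul : (𝔫 • (⊤ : Submodule P N)) = ⊥ := by
    rw [eq_bot_iff]
    intro y hy
    refine Submodule.smul_induction_on hy ?_ ?_
    · intro j hj n _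
      rw [Submodule.mem_bot]
      apply Subtype.ext
      show (j • n : N).1 = 0
      have : ((j • n : N) : P ⧸ 𝔞) = Ideal.Quotient.mk 𝔞 j * n.1 := by
        rw [Submodule.coe_smul_of_tower, Algebra.smul_def]
        rfl
      rw [this]
      exact h𝔫N j hj n.1 n.2
    · intro a b ha hb
      exact add_mem ha hb
  have hzero : D' x = 0 := by
    have h1 : D'.liftKaehlerDifferential (KaehlerDifferential.D R P x) ∈
        Submodule.map D'.liftKaehlerDifferential (𝔫 • (⊤ : Submodule P Ω[P⁄R])) :=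
      Submodule.mem_map_of_mem hD
    rw [Submodule.map_smul''] at h1
    have h2 : 𝔫 • Submodule.map D'.liftKaehlerDifferential ⊤ ≤ 𝔫 • (⊤ : Submodule P N) :=
      Submodule.smul_mono le_rfl le_top
    have h3 := h2 h1
    rw [hsmul, Submodule.mem_bot, Derivation.liftKaehlerDifferential_comp_D] at h3
    exact h3
  have hfx : f x = 0 := by
    rw [hf, (RingHom.mem_ker).mp hx, map_zero]
  have h4 : algebraMap P (P ⧸ 𝔞) x = 0 := by
    have := hD' x
    rw [hzero, hfx, zero_sub] at this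
    have h5 : ((0 : N) : P ⧸ 𝔞) = 0 := rfl
    rw [h5] at this
    exact neg_eq_zero.mp this.symm
  exact Ideal.Quotient.eq_zero_iff_mem.mp h4

end Groth.Agent.H5.Jac
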