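import Mathlib
import Groth.Agent.Lib.Helper5.Jac.Jac1

set_option autoImplicit false
universe u

open IsLocalRing TensorProduct KaehlerDifferential

namespace Groth.Agent.H5.Jac

/-- Krull: an element of `I` lying in `𝔫 I + 𝔫 ^ k` for all `k` lies in `𝔫 I` (Noetherian). -/
theorem mem_mul_of_forall_mem_sup_pow {P : Type u} [CommRing P] [IsNoetherianRing P]
    (𝔫 I : Ideal P) (x : P) (hx : x ∈ I) (h : ∀ k : ℕ, x ∈ 𝔫 * I ⊔ 𝔫 ^ k) : x ∈ 𝔫 * I := by
  have h1 : (Ideal.Quotient.mk (𝔫 * I) x) ∈ (⨅ i : ℕ, 𝔫 ^ i • ⊤ : Submodule P (P ⧸ 𝔫 * I)) := by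
    rw [Submodule.mem_iInf]
    intro k
    obtain ⟨a, ha, b, hb, hab⟩ := Submodule.mem_sup.mp (h k)
    have h2 : Ideal.Quotient.mk (𝔫 * I) x = b • (1 : P ⧸ 𝔫 * I) := by
      rw [← hab, map_add, Ideal.Quotient.eq_zero_iff_mem.mpr ha, zero_add, Algebra.smul_def,
        mul_one]
      rfl
    rw [h2]
    exact Submodule.smul_mem_smul hb Submodule.mem_top
  obtain ⟨r, hr⟩ := (Ideal.mem_iInf_smul_pow_eq_bot_iff 𝔫 _).mp h1
  have h3 : Ideal.Quotient.mk (𝔫 * I) (r.1 * x) = Ideal.Quotient.mk (𝔫 * I) x :=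
    calc Ideal.Quotient.mk (𝔫 * I) (r.1 * x) = r.1 • Ideal.Quotient.mk (𝔫 * I) x := by
          rw [Algebra.smul_def, map_mul]; rfl
      _ = Ideal.Quotient.mk (𝔫 * I) x := hr
  rw [Ideal.Quotient.eq] at h3
  have h4 : r.1 * x ∈ 𝔫 * I := Ideal.mul_mem_mul r.2 hx
  have h5 : x = r.1 * x - (r.1 * x - x) := by ring
  rw [h5]
  exact sub_mem h4 h3

variable {R S P : Type u} [CommRing R] [CommRing S] [IsLocalRing S] [Algebra R S]
  [CommRing P] [Algebra R P] [Algebra P S] [IsScalarTower R P S]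

/-- **Adic formal smoothness implies formal smoothness** for a local algebra with a Noetherian
formally smooth presentation with finite free differentials. -/
theorem formallySmooth_of_isAdicFormallySmooth_of_surjective [IsNoetherianRing P]
    [Algebra.FormallySmooth R P] [Module.Free P Ω[P⁄R]] [Module.Finite P Ω[P⁄R]]
    (h₁ : Function.Surjective (algebraMap P S))
    (hS : CAlgX.IsAdicFormallySmooth R S (maximalIdeal S)) : Algebra.FormallySmooth R S := by
  set 𝔫 : Ideal P := (maximalIdeal S).comap (algebraMap P S) with h𝔫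
  haveI : 𝔫.IsMaximal := Ideal.comap_isMaximal_of_surjective _ h₁
  letI : Field (P ⧸ 𝔫) := Ideal.Quotient.field 𝔫
  have hI𝔫 : RingHom.ker (algebraMap P S) ≤ 𝔫 := by
    intro y hy
    rw [h𝔫, Ideal.mem_comap, (RingHom.mem_ker).mp hy]
    exact zero_mem _
  let l : S →+* P ⧸ 𝔫 := (algebraMap P S).liftOfSurjective h₁
    ⟨Ideal.Quotient.mk 𝔫, fun a ha => by
      rw [RingHom.mem_ker]
      exact Ideal.Quotient.eq_zero_iff_mem.mpr (hI𝔫 ha)⟩
  have hl : ∀ a, l (algebraMap P S a) = Ideal.Quotient.mk 𝔫 a := fun a =>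
    RingHom.liftOfSurjective_comp_apply _ h₁ _ a
  letI algSK : Algebra S (P ⧸ 𝔫) := l.toAlgebra
  haveI : IsScalarTower P S (P ⧸ 𝔫) := IsScalarTower.of_algebraMap_eq (fun a => (hl a).symm)
  have h₃ : maximalIdeal S ≤ RingHom.ker (algebraMap S (P ⧸ 𝔫)) := by
    intro s hs
    obtain ⟨p, rfl⟩ := h₁ s
    rw [RingHom.mem_ker]
    show l (algebraMap P S p) = 0
    rw [hl]
    exact Ideal.Quotient.eq_zero_iff_mem.mpr hs
  have h₂ : (RingHom.ker (algebraMap P S)).FG := IsNoetherian.noetherian _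
  rw [Algebra.FormallySmooth.iff_injective_cotangentComplexBaseChange P (P ⧸ 𝔫) h₁ h₂ h₃]
  rw [injective_iff_map_eq_zero]
  intro z hz
  obtain ⟨x, rfl⟩ := TensorProduct.mk_surjective P (RingHom.ker (algebraMap P S)) (P ⧸ 𝔫)
    Ideal.Quotient.mk_surjective z
  have hz' : (TensorProduct.mk P (P ⧸ 𝔫) Ω[P⁄R] 1) (KaehlerDifferential.D R P x.1) = 0 := by
    have := hz
    rw [TensorProduct.mk_apply, KaehlerDifferential.cotangentComplexBaseChange_tmul, one_smul,
      KaehlerDifferential.kerToTensor_apply] at this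
    exact this
  have hD : KaehlerDifferential.D R P x.1 ∈ 𝔫 • (⊤ : Submodule P Ω[P⁄R]) := by
    rw [← LinearMap.ker_tensorProductMk]
    exact hz'
  have hx : x.1 ∈ 𝔫 * RingHom.ker (algebraMap P S) :=
    mem_mul_of_forall_mem_sup_pow 𝔫 _ x.1 x.2 (fun k => mem_sup_pow_of_D_mem h₁ hS x.1 x.2 hD k)
  have hx' : x ∈ 𝔫 • (⊤ : Submodule P (RingHom.ker (algebraMap P S))) := by
    rw [Submodule.mem_smul_top_iff]
    exact hx
  rw [← LinearMap.ker_tensorProductMk] at hx'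
  exact hx'

end Groth.Agent.H5.Jac
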