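import Mathlib
import Groth.Agent.Lib.Helper5.Jac.Jac2

set_option autoImplicit false
universe u

open IsLocalRing TensorProduct KaehlerDifferential

namespace Groth.Agent.H5.Jac

theorem formallySmooth_of_isAdicFormallySmooth_of_isLocalization {R S P₀ : Type u} [CommRing R]
    [IsNoetherianRing R] [CommRing S] [IsLocalRing S] [Algebra R S] [CommRing P₀] [Algebra R P₀]
    [Algebra P₀ S] [IsScalarTower R P₀ S] (M : Submonoid P₀) [IsLocalization M S]
    [Algebra.FiniteType R P₀]
    (hS : CAlgX.IsAdicFormallySmooth R S (maximalIdeal S)) : Algebra.FormallySmooth R S := by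
  obtain ⟨n, f₀, hf₀⟩ := Algebra.FiniteType.iff_quotient_mvPolynomial''.mp
    (inferInstance : Algebra.FiniteType R P₀)
  let M' := M.comap f₀
  let P' := Localization M'
  let fP : P' →ₐ[R] S := IsLocalization.liftAlgHom (M := M')
      (f := (IsScalarTower.toAlgHom R P₀ S).comp f₀) fun x ↦ by
    simpa using IsLocalization.map_units (M := M) _ ⟨f₀ x.1, x.2⟩
  have hf₁ : Function.Surjective fP := by
    intro x
    obtain ⟨x, ⟨s, hs⟩, rfl⟩ := IsLocalization.exists_mk'_eq M x
    obtain ⟨x, rfl⟩ := hf₀ x
    obtain ⟨s, rfl⟩ := hf₀ s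
    refine ⟨IsLocalization.mk' (M := M') _ x ⟨s, hs⟩, ?_⟩
    simp [fP, IsLocalization.lift_mk', Units.mul_inv_eq_iff_eq_mul, IsUnit.liftRight]
  algebraize [fP.toRingHom]
  haveI : IsScalarTower R P' S := IsScalarTower.of_algebraMap_eq (fun r => (fP.commutes r).symm)
  have : Algebra.FormallyEtale (MvPolynomial (Fin n) R) P' := .of_isLocalization M'
  have : Algebra.FormallySmooth R P' := .comp _ (MvPolynomial (Fin n) R) _
  have : Module.Free P' Ω[P'⁄R] :=
    .of_equiv (KaehlerDifferential.tensorKaehlerEquivOfFormallyEtale R (MvPolynomial (Fin n) R) P')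
  haveI : IsNoetherianRing P' := IsLocalization.isNoetherianRing M' P' inferInstance
  exact formallySmooth_of_isAdicFormallySmooth_of_surjective (P := P') hf₁ hS

/-- **Adic formal smoothness implies formal smoothness** for local algebras essentially of finite
type over a Noetherian ring (cf. EGA IV 17.5.3). -/
theorem formallySmooth_of_isAdicFormallySmooth_of_essFiniteType {R S : Type u} [CommRing R]
    [IsNoetherianRing R] [CommRing S] [IsLocalRing S] [Algebra R S] [Algebra.EssFiniteType R S]
    (hS : CAlgX.IsAdicFormallySmooth R S (maximalIdeal S)) : Algebra.FormallySmooth R S :=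
  formallySmooth_of_isAdicFormallySmooth_of_isLocalization
    (P₀ := Algebra.EssFiniteType.subalgebra R S) (Algebra.EssFiniteType.submonoid R S) hS

end Groth.Agent.H5.Jac
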